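import Cfsg.Agent.Lib.FischerThm.A.Space

/-!
# Node A: the embedding (helper73)

A class without affine planes is a configuration of symplectic type and the group acts on its space
faithfully, the members as the transvections at their points.
-/

set_option autoImplicit false
set_option linter.unusedSectionVars false

namespace Cfsg.Agent.Lib.FischerThm.A

open Cfsg Cfsg.Agent.Lib.SympTypeF2x73 Cfsg.Agent.Lib.FischerMTypes.Primitive

universe u

variable {G : Type u} [Group G] [Finite G] {D : Set G}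

/-- The data of an embedding of `(G, D)` as a transvection group. -/
structure Emb (D : Set G) (V : Type u) [AddCommGroup V] [Module (ZMod 2) V] where
  C : Config V
  iota : G → V
  rho : G →* (V ≃ₗ[ZMod 2] V)
  inj : ∀ a ∈ D, ∀ b ∈ D, iota a = iota b → a = b
  image : iota '' D = C.D
  adj : ∀ a ∈ D, ∀ b ∈ D, C.B (iota a) (iota b) = 1 ↔ ¬ Commute a b
  third : ∀ a ∈ D, ∀ b ∈ D, ¬ Commute a b → iota (a * b * a) = iota a + iota b
  rho_injective : Function.Injective rho
  rho_iota : ∀ g, ∀ a ∈ D, rho g (iota a) = iota (g * a * g⁻¹)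
  rho_isom : ∀ g u v, C.B (rho g u) (rho g v) = C.B u v
  rho_transv : ∀ a ∈ D, ∀ w, rho a w = w + C.B (iota a) w • iota a

/-- Conjugation on `D`. -/
def cj (hD : IsThreeTranspositionGroup D) (g : G) (x : D) : D := ⟨g * x * g⁻¹, hD.2.1 g x x.2⟩

theorem cj_mul (hD : IsThreeTranspositionGroup D) (g k : G) (x : D) :
    cj hD (g * k) x = cj hD g (cj hD k x) := Subtype.ext (by simp [cj, mul_assoc])

theorem cj_one (hD : IsThreeTranspositionGroup D) (x : D) : cj hD 1 x = x :=
  Subtype.ext (by simp [cj])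

/-- The action of an element on the functions. -/
def act (hD : IsThreeTranspositionGroup D) (g : G) : Fun D →ₗ[ZMod 2] Fun D :=
  LinearMap.funLeft (ZMod 2) (ZMod 2) (cj hD g⁻¹)

theorem act_nc (hD : IsThreeTranspositionGroup D) (g : G) (a : D) :
    act hD g (nc D a) = nc D (cj hD g a) := by
  funext x
  have key : Commute (a : G) (cj hD g⁻¹ x : G) ↔ Commute (cj hD g a : G) (x : G) := by
    rw [← Cfsg.Agent.Lib.FischerMTypes.Basic.commute_conj_iff g]
    simp [cj, mul_assoc]
  show nc D a (cj hD g⁻¹ x) = _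
  by_cases h : Commute (cj hD g a : G) (x : G)
  · rw [nc_of h, nc_of (key.2 h)]
  · rw [nc_of_not h, nc_of_not fun h' => h (key.1 h')]

theorem act_mem (hD : IsThreeTranspositionGroup D) (g : G) (φ : Fun D) (hφ : φ ∈ space D) :
    act hD g φ ∈ space D := by
  have : (space D).map (act hD g) ≤ space D := by
    rw [Submodule.map_span, Submodule.span_le]
    rintro _ ⟨_, ⟨a, rfl⟩, rfl⟩
    rw [act_nc]
    exact Submodule.subset_span ⟨_, rfl⟩
  exact this (Submodule.mem_map_of_mem hφ)

/-- The action on the space. -/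
noncomputable def actSpace (hD : IsThreeTranspositionGroup D) (g : G) : space D →ₗ[ZMod 2] space D :=
  ((act hD g).comp (space D).subtype).codRestrict _ fun φ => act_mem hD g φ.1 φ.2

theorem actSpace_mul (hD : IsThreeTranspositionGroup D) (g k : G) (φ : space D) :
    actSpace hD (g * k) φ = actSpace hD g (actSpace hD k φ) := by
  refine Subtype.ext (funext fun x => ?_)
  show (φ : Fun D) (cj hD (g * k)⁻¹ x) = (φ : Fun D) (cj hD k⁻¹ (cj hD g⁻¹ x))
  rw [mul_inv_rev, cj_mul]

theorem actSpace_one (hD : IsThreeTranspositionGroup D) (φ : space D) : actSpace hD 1 φ = φ := by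
  refine Subtype.ext (funext fun x => ?_)
  show (φ : Fun D) (cj hD 1⁻¹ x) = (φ : Fun D) x
  rw [inv_one, cj_one]

theorem actSpace_pt (hD : IsThreeTranspositionGroup D) (g : G) (a : D) :
    actSpace hD g (pt D a) = pt D (cj hD g a) := Subtype.ext (act_nc hD g a)

/-- The representation. -/
noncomputable def repSpace (hD : IsThreeTranspositionGroup D) :
    G →* (space D ≃ₗ[ZMod 2] space D) where
  toFun g :=
    LinearEquiv.ofLinearMap (actSpace hD g) (actSpace hD g⁻¹)
      (LinearMap.ext fun φ => by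
        rw [LinearMap.comp_apply, ← actSpace_mul, mul_inv_cancel, actSpace_one]; rfl)
      (LinearMap.ext fun φ => by
        rw [LinearMap.comp_apply, ← actSpace_mul, inv_mul_cancel, actSpace_one]; rfl)
  map_one' := LinearEquiv.ext fun φ => actSpace_one hD φ
  map_mul' g k := LinearEquiv.ext fun φ => actSpace_mul hD g k φ

theorem B_symm_of (B : space D →ₗ[ZMod 2] space D →ₗ[ZMod 2] ZMod 2)
    (hB : ∀ φ a, B φ (pt D a) = (φ : Fun D) a) (φ ψ : space D) : B φ ψ = B ψ φ := by
  have : B = B.flip :=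
    LinearMap.ext_on_range span_pt fun a => LinearMap.ext_on_range span_pt fun b => by
      rw [LinearMap.flip_apply, hB, hB]; exact nc_comm a b
  conv_lhs => rw [this]
  rfl

theorem B_self_of (B : space D →ₗ[ZMod 2] space D →ₗ[ZMod 2] ZMod 2)
    (hB : ∀ φ a, B φ (pt D a) = (φ : Fun D) a) (φ : space D) : B φ φ = 0 := by
  have hφ : φ ∈ Submodule.span (ZMod 2) (Set.range (pt D)) := span_pt (D := D) ▸ Submodule.mem_top
  induction hφ using Submodule.span_induction with
  | mem x hx => obtain ⟨a, rfl⟩ := hx; rw [hB]; exact nc_self a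
  | zero => simp
  | add x y _ _ hx hy =>
    simp only [map_add, LinearMap.add_apply, hx, hy, B_symm_of B hB y x, zero_add, add_zero]
    exact z2_add_self _
  | smul r x _ hx => simp [hx]

theorem exists_not_comm (h : Prim D) {a : G} (ha : a ∈ D) : ∃ b ∈ D, ¬ Commute a b := by
  by_contra hn
  push Not at hn
  refine ThreeTranspositions.ne_one h.hD.1 ha ?_
  rw [← Subgroup.mem_bot (G := G), ← h.hZ]
  exact ThreeTranspositions.mem_center_of_commute_gen h.hD.2.2 fun b hb => hn b hb

theorem exists_off_line (h : Prim D) {a b : G} (ha : a ∈ D) (hb : b ∈ D) (hab : ¬ Commute a b) :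
    ∃ c ∈ D, c ≠ a ∧ c ≠ b ∧ c ≠ a * b * a := by
  have hC := ThreeTranspositions.isClosedSet_of_group h.hD
  by_contra hn
  push Not at hn
  obtain ⟨p, hp, q, hq, hqp, hpq⟩ := h.hw
  have key : ∀ x ∈ D, x = a ∨ x = b ∨ x = a * b * a := fun x hx => by
    by_contra hc
    push Not at hc
    exact hc.2.2 (hn x hx hc.1 hc.2.1)
  have h1 := ThreeTranspositions.third_not_commute_left hC ha hb hab
  have h2 := ThreeTranspositions.third_not_commute_right hC ha hb hab
  rcases key p hp with rfl | rfl | rfl <;> rcases key q hq with rfl | rfl | rfl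
  · exact hqp rfl
  · exact hab hpq
  · exact h1 hpq
  · exact hab hpq.symm
  · exact hqp rfl
  · exact h2 hpq
  · exact h1 hpq.symm
  · exact h2 hpq.symm
  · exact hqp rfl

open Classical in
/-- The embedding. -/
theorem exists_emb (h : Prim D) (hn : NoPlane D) :
    ∃ (V : Type u) (_ : AddCommGroup V) (_ : Module (ZMod 2) V) (_ : Finite V),
      Nonempty (Emb D V) := by
  obtain ⟨B, hB⟩ := exists_form D
  have hC := ThreeTranspositions.isClosedSet_of_group h.hD
  have hadj : ∀ a b : D, B (pt D a) (pt D b) = 1 ↔ ¬ Commute (a : G) (b : G) := by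
    intro a b
    rw [hB, pt_val]
    by_cases hc : Commute (a : G) (b : G)
    · simp [nc_of hc, hc]
    · simp [nc_of_not hc, hc]
  obtain ⟨a₀, ha₀, b₀, hb₀, hab₀⟩ := not_all_commute h.hD h.hprim h.hZ
  obtain ⟨c₀, hc₀, h1, h2, h3⟩ := exists_off_line h ha₀ hb₀ hab₀
  let C : Config (space D) :=
    { B := B
      D := Set.range (pt D)
      alt := B_self_of B hB
      nondeg := fun φ hφ => Subtype.ext (funext fun a => by rw [← hB φ a, hφ]; rfl)
      zero_notMem := by
        rintro ⟨a, ha⟩
        obtain ⟨b, hb, hab⟩ := exists_not_comm h a.2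
        have := (hadj a ⟨b, hb⟩).2 hab
        rw [ha, map_zero, LinearMap.zero_apply] at this
        exact z2_one_ne_zero this.symm
      add_mem := by
        rintro _ ⟨a, rfl⟩ _ ⟨b, rfl⟩ hab
        exact ⟨_, pt_third h hn a b ((hadj a b).1 hab)⟩
      span_eq_top := span_pt
      conn := by
        intro A hA hne hcl
        have := connected h (A := {x | ∃ hx : x ∈ D, pt D ⟨x, hx⟩ ∈ A}) (fun x hx => hx.1)
          (by
            obtain ⟨v, hv⟩ := hne
            obtain ⟨a, rfl⟩ := hA hv
            exact ⟨a, a.2, hv⟩)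
          (fun a ⟨ha, haA⟩ b hb hab =>
            ⟨hb, hcl _ haA _ ⟨⟨b, hb⟩, rfl⟩ ((hadj ⟨a, ha⟩ ⟨b, hb⟩).2 hab)⟩)
        refine Set.Subset.antisymm hA ?_
        rintro _ ⟨a, rfl⟩
        exact ((Set.ext_iff.1 this a).2 a.2).2
      big := ⟨_, ⟨⟨a₀, ha₀⟩, rfl⟩, _, ⟨⟨b₀, hb₀⟩, rfl⟩, (hadj _ _).2 hab₀, _, ⟨⟨c₀, hc₀⟩, rfl⟩,
        fun e => h1 (congrArg Subtype.val (pt_injective h e)),
        fun e => h2 (congrArg Subtype.val (pt_injective h e)),
        fun e => h3 (congrArg Subtype.val (pt_injective h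
          (e.trans (pt_third h hn ⟨a₀, ha₀⟩ ⟨b₀, hb₀⟩ hab₀).symm)))⟩ }
  refine ⟨space D, inferInstance, inferInstance, inferInstance, ⟨{
    C := C
    iota := fun g => if hg : g ∈ D then pt D ⟨g, hg⟩ else 0
    rho := repSpace h.hD
    inj := fun a ha b hb e => by
      simp only [dif_pos ha, dif_pos hb] at e
      exact congrArg Subtype.val (pt_injective h e)
    image := by
      ext v
      constructor
      · rintro ⟨a, ha, rfl⟩
        exact ⟨⟨a, ha⟩, by simp [ha]⟩
      · rintro ⟨a, rfl⟩
        exact ⟨a, a.2, by simp⟩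
    adj := fun a ha b hb => by
      simp only [dif_pos ha, dif_pos hb]
      exact hadj ⟨a, ha⟩ ⟨b, hb⟩
    third := fun a ha b hb hab => by
      simp only [dif_pos ha, dif_pos hb, dif_pos (ThreeTranspositions.third_mem hC ha hb)]
      exact pt_third h hn ⟨a, ha⟩ ⟨b, hb⟩ hab
    rho_injective := ?_
    rho_iota := fun g a ha => by
      simp only [dif_pos ha, dif_pos (h.hD.2.1 g a ha)]
      exact actSpace_pt h.hD g ⟨a, ha⟩
    rho_isom := ?_
    rho_transv := ?_ }⟩⟩
  · intro g k e
    rw [← inv_mul_eq_one, ← Subgroup.mem_bot, ← h.hZ]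
    refine ThreeTranspositions.mem_center_of_commute_gen h.hD.2.2 fun a ha => ?_
    have h2 : cj h.hD g ⟨a, ha⟩ = cj h.hD k ⟨a, ha⟩ := pt_injective h (by
      rw [← actSpace_pt, ← actSpace_pt]
      exact LinearEquiv.congr_fun e _)
    have h3 : g * a * g⁻¹ = k * a * k⁻¹ := congrArg Subtype.val h2
    show g⁻¹ * k * a = a * (g⁻¹ * k)
    have h4 : g⁻¹ * (g * a * g⁻¹) * k = g⁻¹ * (k * a * k⁻¹) * k := by rw [h3]
    simp only [mul_assoc, inv_mul_cancel_left, inv_mul_cancel, mul_one] at h4 ⊢
    exact h4.symm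
  · intro g u v
    have key : LinearMap.compl₁₂ B (actSpace h.hD g) (actSpace h.hD g) = B :=
      LinearMap.ext_on_range span_pt fun a => LinearMap.ext_on_range span_pt fun b => by
        rw [LinearMap.compl₁₂_apply, actSpace_pt, actSpace_pt, hB, hB, pt_val, pt_val]
        have hcc : Commute (cj h.hD g a : G) (cj h.hD g b : G) ↔ Commute (a : G) (b : G) :=
          Cfsg.Agent.Lib.FischerMTypes.Basic.commute_conj_iff g a b
        by_cases hc : Commute (a : G) (b : G)
        · rw [nc_of hc, nc_of (hcc.2 hc)]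
        · rw [nc_of_not hc, nc_of_not fun h' => hc (hcc.1 h')]
    exact LinearMap.congr_fun₂ key u v
  · intro a ha w
    simp only [dif_pos ha]
    have key : actSpace h.hD a = LinearMap.id + (B (pt D ⟨a, ha⟩)).smulRight (pt D ⟨a, ha⟩) := by
      refine LinearMap.ext_on_range span_pt fun b => ?_
      rw [actSpace_pt, LinearMap.add_apply, LinearMap.id_apply, LinearMap.smulRight_apply]
      by_cases hc : Commute a (b : G)
      · rw [z2_zero_of_ne fun h' => (hadj _ _).1 h' hc, zero_smul, add_zero]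
        refine congrArg (pt D) (Subtype.ext ?_)
        show a * b * a⁻¹ = (b : G)
        rw [hc.eq, mul_inv_cancel_right]
      · rw [(hadj ⟨a, ha⟩ b).2 hc, one_smul, add_comm, ← pt_third h hn ⟨a, ha⟩ b hc]
        refine congrArg (pt D) (Subtype.ext ?_)
        show a * b * a⁻¹ = a * b * a
        rw [ThreeTranspositions.inv_eq h.hD.1 ha]
    exact LinearMap.congr_fun key w

end Cfsg.Agent.Lib.FischerThm.A
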