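import Cfsg.Agent.Lib.FischerThm.A.ModelSp
import Cfsg.Agent.Lib.Forms.TwoTranspositions
import Cfsg.Agent.Lib.ArfTwo

/-!
# Node A: the orthogonal models (helper97)

A class whose points are the vectors of value one of a quadratic form polarising to the form is the
class of transvections of an orthogonal group over two elements.
-/

set_option autoImplicit false
open scoped MatrixGroups

namespace Cfsg.Agent.Lib.FischerThm.A.Models

open Cfsg Cfsg.Agent.Lib.SympTypeF2x73 QuadraticMap

universe u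

variable {G : Type u} [Group G] [Finite G] {D : Set G} {V : Type u} [AddCommGroup V]
  [Module (ZMod 2) V] [Finite V]

/-- The identification with the isometry group of a form `Q` matched to `q`. -/
theorem exists_equiv_isometry (h : Prim D) (E : Emb D V) {q : V → ZMod 2} (hq : IsPolar E.C q)
    (hD : E.C.D = {v | q v = 1}) {ι : Type} [Fintype ι] [DecidableEq ι]
    (Q : QuadraticForm (ZMod 2) (ι → ZMod 2)) {f : (ι → ZMod 2) → ZMod 2} (hf : ∀ v, f v = Q v)
    (hQ : Forms.Nondeg Q) (h4 : Fintype.card ι ≠ 4) (F : V ≃ₗ[ZMod 2] (ι → ZMod 2))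
    (hF : ∀ v, Q (F v) = q v) :
    ∃ e : G ≃* ↥(Cfsg.isometryGroup (ZMod 2) f), e '' D = {g : ↥(Cfsg.isometryGroup (ZMod 2) f) |
      (((g : GL ι (ZMod 2)) : Matrix ι ι (ZMod 2)) - 1).rank = 1} := by
  have h1 : ∀ a : ZMod 2, a ≠ 0 → a = 1 := fun a ha => z2_one_of_ne ha
  have hq1 : ∀ a ∈ D, q (E.iota a) = 1 := fun a ha => by
    have hm : E.iota a ∈ E.C.D := E.image ▸ ⟨a, ha, rfl⟩
    rw [hD] at hm
    exact hm
  have hpol : ∀ v w, polar Q (F v) (F w) = E.C.B v w := fun v w => by
    rw [polar, ← map_add, hF, hF, hF, hq]; ring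
  -- the group preserves the form
  have hpres : ∀ g v, q (E.rho g v) = q v := by
    intro g
    have hg : g ∈ Subgroup.closure D := by rw [h.hD.2.2]; trivial
    induction hg using Subgroup.closure_induction with
    | mem a ha =>
      intro v
      rw [E.rho_transv a ha]
      rcases z2_cases (E.C.B (E.iota a) v) with e | e
      · rw [e, zero_smul, add_zero]
      · rw [e, one_smul, hq, hq1 a ha, B_comm, e, add_assoc, z2_add_self, add_zero]
    | one => intro v; rw [map_one]; rfl
    | mul g k _ _ hg hk => intro v; rw [map_mul, LinearEquiv.mul_apply, hg, hk]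
    | inv g _ hg =>
      intro v
      conv_rhs => rw [show v = E.rho g (E.rho g⁻¹ v) by
        rw [← LinearEquiv.mul_apply, ← map_mul, mul_inv_cancel, map_one]; rfl, hg]
  let ψ : G →* Forms.orth Q :=
    { toFun := fun g => ⟨(F.symm.trans (E.rho g)).trans F, fun v => by
        show Q (F (E.rho g (F.symm v))) = Q v
        rw [hF, hpres, ← hF, F.apply_symm_apply]⟩
      map_one' := Subtype.ext (LinearEquiv.ext fun v => by simp)
      map_mul' := fun g k => Subtype.ext (LinearEquiv.ext fun v => by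
        show F (E.rho (g * k) (F.symm v)) = F (E.rho g (F.symm (F (E.rho k (F.symm v)))))
        rw [map_mul, F.symm_apply_apply, LinearEquiv.mul_apply]) }
  have hψ : ∀ g v, (ψ g).1 (F v) = F (E.rho g v) := fun g v =>
    show F (E.rho g (F.symm (F v))) = _ by rw [F.symm_apply_apply]
  have hinj : Function.Injective ψ := fun g k e => E.rho_injective (LinearEquiv.ext fun v =>
    F.injective (by rw [← hψ, ← hψ, e]))
  have hval : ∀ a ∈ D, ψ a = Forms.orefl Q (F (E.iota a)) := by
    intro a ha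
    have hne : Q (F (E.iota a)) ≠ 0 := by rw [hF, hq1 a ha]; decide
    refine Subtype.ext (LinearEquiv.ext fun y => ?_)
    obtain ⟨v, rfl⟩ := F.surjective y
    rw [hψ, E.rho_transv a ha, map_add, map_smul]
    show _ = Forms.refl Q (F (E.iota a)) (F v)
    rw [Forms.TwoTranspositions.refl_two h1 hne, hpol]
  have himg : ψ '' D = Forms.reflSet Q := by
    refine Set.Subset.antisymm ?_ ?_
    · rintro _ ⟨a, ha, rfl⟩
      exact ⟨_, by rw [hF, hq1 a ha]; decide, hval a ha⟩
    · rintro _ ⟨v, hv, rfl⟩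
      have hm : F.symm v ∈ E.C.D := by
        rw [hD]
        show q (F.symm v) = 1
        rw [← hF, F.apply_symm_apply]
        exact h1 _ hv
      rw [← E.image] at hm
      obtain ⟨a, ha, e⟩ := hm
      exact ⟨a, ha, by rw [hval a ha, e, F.apply_symm_apply]⟩
  have hsurj : Function.Surjective ψ := by
    rw [← MonoidHom.range_eq_top, eq_top_iff,
      ← Forms.closure_reflSet hQ (Or.inr (by simpa using h4)), ← himg, Subgroup.closure_le]
    rintro _ ⟨a, -, rfl⟩
    exact ⟨a, rfl⟩
  refine ⟨(MulEquiv.ofBijective ψ ⟨hinj, hsurj⟩).trans (Forms.isoOrth Q hf).symm, ?_⟩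
  have key : ∀ g : ↥(Cfsg.isometryGroup (ZMod 2) f),
      (((g : GL ι (ZMod 2)) : Matrix ι ι (ZMod 2)) - 1).rank = 1 ↔
        Forms.isoOrth Q hf g ∈ Forms.reflSet Q := by
    intro g
    have e : (((g : GL ι (ZMod 2)) : Matrix ι ι (ZMod 2)) - 1).mulVecLin =
        Forms.dev (Forms.isoOrth Q hf g).1 := by
      refine LinearMap.ext fun x => ?_
      rw [Matrix.mulVecLin_apply, Matrix.sub_mulVec, Matrix.one_mulVec, Forms.dev_apply,
        Forms.isoOrth_apply]
    rw [Matrix.rank, e]
    constructor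
    · intro h
      exact Forms.TwoTranspositions.eq_orefl hQ h1 _ h
    · rintro ⟨v, hv, hg⟩
      rw [hg]
      exact Forms.TwoTranspositions.finrank_dev_orefl hQ hv
  ext g
  rw [Set.mem_ofPred_eq, key g, ← himg]
  constructor
  · rintro ⟨a, ha, rfl⟩
    exact ⟨a, ha, by rw [MulEquiv.trans_apply, MulEquiv.apply_symm_apply]; rfl⟩
  · rintro ⟨a, ha, e⟩
    refine ⟨a, ha, (Forms.isoOrth Q hf).injective ?_⟩
    rw [MulEquiv.trans_apply, MulEquiv.apply_symm_apply]
    exact e

theorem stdForm_eq_bil (m : ℕ) (v w : Fin m ⊕ Fin m → ZMod 2) :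
    Symplectic.stdForm m (ZMod 2) v w = ArfTwo.bil m v w := by
  rw [Symplectic.stdForm_apply, ArfTwo.bil_eq]
  refine Finset.sum_congr rfl fun i _ => ?_
  generalize v (Sum.inl i) = a, v (Sum.inr i) = b, w (Sum.inl i) = c, w (Sum.inr i) = d
  revert a b c d
  decide

/-- The orthogonal models. -/
theorem isOrthClass_of (h : Prim D) (E : Emb D V) (hs : IsOrthType E.C) :
    (∃ m, 3 ≤ m ∧ IsOPlusClass D m) ∨ (∃ m, 2 ≤ m ∧ IsOMinusClass D m) := by
  obtain ⟨hdim, q, hq, hD⟩ := hs
  obtain ⟨m, hm, f, hf⟩ := exists_coords E.C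
  have hpol : ArfTwo.Polar m fun y => q (f.symm y) := fun u v => by
    show q (f.symm (u + v)) = q (f.symm u) + q (f.symm v) + ArfTwo.bil m u v
    rw [map_add, hq, ← stdForm_eq_bil, ← hf, f.apply_symm_apply, f.apply_symm_apply]
  obtain ⟨w, hw⟩ := ArfTwo.exists_shift hpol
  have hqv : ∀ v, q v = ArfTwo.shift m w (f v) := fun v => by
    rw [← hw]; simp
  rcases ArfTwo.two_cases (quadFormPlus m (ZMod 2) w) with e | e
  · obtain ⟨g, hg⟩ := (ArfTwo.shift_plus_iff m (by omega) w).2 e
    refine Or.inl ⟨m, by omega, ?_⟩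
    exact exists_equiv_isometry h E hq hD (Forms.qPlus m) (Forms.qPlus_eq m)
      (Forms.qPlus_nondeg m) (by simp; omega) (f.trans g)
      fun v => by rw [LinearEquiv.trans_apply, ← Forms.qPlus_eq, ← hg, hqv]
  · obtain ⟨g, hg⟩ := ArfTwo.shift_minus m (by omega) w e
    refine Or.inr ⟨m - 1, by omega, ?_⟩
    haveI : Fact (Nat.Prime 2) := ⟨Nat.prime_two⟩
    exact exists_equiv_isometry h E hq hD (Forms.qMinus (m - 1) 1 1)
      (fun v => (Forms.qMinus_apply (m - 1) 1 1 v).symm)
      (Forms.qMinus_nondeg (m - 1) ArfTwo.bin_aniso) (by simp; omega) (f.trans g)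
      fun v => by rw [LinearEquiv.trans_apply, Forms.qMinus_apply, ← hg, hqv]

end Cfsg.Agent.Lib.FischerThm.A.Models
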