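import Cfsg.Agent.Lib.FischerThm.A.Embed
import Cfsg.Agent.Lib.Symplectic.Order
import Cfsg.Agent.Lib.Symplectic.Std
import Cfsg.Agent.S0440

/-!
# Node A: the symplectic model (helper97)

A class whose points are all non-zero vectors is the class of transvections of a symplectic group.
-/

set_option autoImplicit false

namespace Cfsg.Agent.Lib.FischerThm.A.Models

open Cfsg Cfsg.Agent.Lib.SympTypeF2x73 Cfsg.Agent.Lib.Symplectic

universe u

variable {G : Type u} [Group G] [Finite G] {D : Set G} {V : Type u} [AddCommGroup V]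
  [Module (ZMod 2) V] [Finite V]

theorem isSympForm_config (C : Config V) : IsSympForm C.B := ⟨C.alt, C.nondeg⟩

/-- Coordinates in which the form of an embedding is the standard one. -/
theorem exists_coords (C : Config V) :
    ∃ m, Module.finrank (ZMod 2) V = 2 * m ∧
      ∃ f : V ≃ₗ[ZMod 2] (Fin m ⊕ Fin m → ZMod 2),
        ∀ v w, stdForm m (ZMod 2) (f v) (f w) = C.B v w := by
  have : FiniteDimensional (ZMod 2) V := Module.Finite.of_finite
  obtain ⟨m, hm⟩ := even_finrank (isSympForm_config C)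
  refine ⟨m, by omega, ?_⟩
  exact exists_isometry (isSympForm_config C) (isSympForm_stdForm m (ZMod 2))
    (by rw [finrank_std]; omega)

/-- The symplectic model. -/
theorem isSpClass_of (h : Prim D) (E : Emb D V) (hs : IsSpType E.C) :
    ∃ m, 2 ≤ m ∧ IsSpClass D m := by
  obtain ⟨hdim, hD⟩ := hs
  obtain ⟨m, hm, f, hf⟩ := exists_coords E.C
  refine ⟨m, by omega, ?_⟩
  have hB := isSympForm_stdForm m (ZMod 2)
  have hC := isSympForm_config E.C
  let ρ : G →* Isom E.C.B := E.rho.codRestrict _ fun g => E.rho_isom g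
  let ψ : G →* Isom (stdForm m (ZMod 2)) := (isomCongr f hf).toMonoidHom.comp ρ
  have hinj : Function.Injective ψ := fun g k e =>
    E.rho_injective (congrArg Subtype.val ((isomCongr f hf).injective e))
  have hval : ∀ a ∈ D, ψ a = transv hB (f (E.iota a)) 1 := by
    intro a ha
    refine isom_ext fun y => ?_
    obtain ⟨x, rfl⟩ := f.surjective y
    show isomCongr f hf (ρ a) • f x = _
    rw [isomCongr_smul, transv_smul, hf, one_mul]
    show f (E.rho a x) = _
    rw [E.rho_transv a ha, map_add, map_smul, B_comm E.C x]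
  have hpt : ∀ v, v ≠ 0 → ∃ a ∈ D, ψ a = transv hB v 1 := by
    intro v hv
    have hm' : f.symm v ∈ E.C.D := by
      rw [hD]; exact fun e => hv (f.symm.map_eq_zero_iff.1 e)
    rw [← E.image] at hm'
    obtain ⟨a, ha, e⟩ := hm'
    exact ⟨a, ha, by rw [hval a ha, e, f.apply_symm_apply]⟩
  have hsurj : Function.Surjective ψ := by
    rw [← MonoidHom.range_eq_top, eq_top_iff, ← TG_eq_top hB, TG, Subgroup.closure_le]
    rintro _ ⟨⟨v, c⟩, rfl⟩
    rcases z2_cases c with rfl | rfl
    · simp only [transv_zero]; exact one_mem _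
    by_cases hv : v = 0
    · subst hv; simp only [transv_vec_zero]; exact one_mem _
    obtain ⟨a, -, e⟩ := hpt v hv
    exact ⟨a, e⟩
  refine ⟨(MulEquiv.ofBijective ψ ⟨hinj, hsurj⟩).trans (spEquiv m (ZMod 2)).symm, ?_⟩
  ext g
  rw [Set.mem_ofPred_eq, Cfsg.Agent.S0440.rank_one_iff]
  constructor
  · rintro ⟨a, ha, rfl⟩
    refine ⟨f (E.iota a), fun e => ?_, ?_⟩
    · exact ne_zero E.C (E.image ▸ ⟨a, ha, rfl⟩) (f.map_eq_zero_iff.1 e)
    · rw [MulEquiv.trans_apply, MulEquiv.apply_symm_apply]
      exact hval a ha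
  · rintro ⟨v, hv, e⟩
    obtain ⟨a, ha, e'⟩ := hpt v hv
    refine ⟨a, ha, (spEquiv m (ZMod 2)).injective ?_⟩
    rw [MulEquiv.trans_apply, MulEquiv.apply_symm_apply, e]
    exact e'

end Cfsg.Agent.Lib.FischerThm.A.Models
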