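import Cfsg.Agent.Lib.FischerThm.A.Embed

/-!
# Node A: the symmetric model (helper97)

A class whose points are the pair sums of a star of `n` points is the class of transpositions of the
symmetric group of degree `n`.
-/

set_option autoImplicit false

namespace Cfsg.Agent.Lib.FischerThm.A.Models

open Cfsg Cfsg.Agent.Lib.SympTypeF2x73

universe u

section
variable {V : Type*} [AddCommGroup V] [Module (ZMod 2) V] {C : Config V} {n : ℕ} {x : Fin n → V}

/-- The transvection at a pair sum permutes the pair sums as a transposition. -/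
theorem transv_pair (hs : IsStar C x) {p q i j : Fin n} (hpq : p ≠ q) (hij : i ≠ j) :
    (x i + x j) + C.B (x p + x q) (x i + x j) • (x p + x q) =
      x (Equiv.swap p q i) + x (Equiv.swap p q j) := by
  rw [hs.2 p q i j]
  have e11 : (1 : ZMod 2) + 1 = 0 := by decide
  have c1 : ∀ a b c : V, a + b + (a + c) = c + b := fun a b c => by
    calc a + b + (a + c) = (a + a) + (b + c) := by abel
      _ = c + b := by rw [vadd_self, zero_add, add_comm]
  by_cases h1 : i = p
  · subst h1
    by_cases h2 : j = q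
    · subst h2
      simp [ind_of_ne hij, ind_of_ne hij.symm, e11, add_comm (x j) (x i)]
    · rw [Equiv.swap_apply_left, Equiv.swap_apply_of_ne_of_ne hij.symm h2]
      simp [ind_of_ne hij, ind_of_ne hpq.symm, ind_of_ne (fun h => h2 h.symm : q ≠ j), c1]
  by_cases h2 : i = q
  · subst h2
    by_cases h3 : j = p
    · subst h3
      simp [ind_of_ne hij, ind_of_ne hij.symm, e11, add_comm (x j) (x i)]
    · rw [Equiv.swap_apply_right, Equiv.swap_apply_of_ne_of_ne h3 hij.symm]
      simp [ind_of_ne hij, ind_of_ne hpq, ind_of_ne (fun h => h3 h.symm : p ≠ j),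
        add_comm (x p) (x i), c1]
  by_cases h3 : j = p
  · subst h3
    rw [Equiv.swap_apply_left, Equiv.swap_apply_of_ne_of_ne h1 h2]
    simp [ind_of_ne hpq.symm, ind_of_ne (fun h => h1 h.symm : j ≠ i),
      ind_of_ne (fun h => h2 h.symm : q ≠ i), add_comm (x i) (x j), c1, add_comm (x q) (x i)]
  by_cases h4 : j = q
  · subst h4
    rw [Equiv.swap_apply_right, Equiv.swap_apply_of_ne_of_ne h1 h2]
    simp [ind_of_ne hpq, ind_of_ne (fun h => h2 h.symm : j ≠ i),
      ind_of_ne (fun h => h1 h.symm : p ≠ i), add_comm (x i) (x j), c1, add_comm (x p) (x j),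
      add_comm (x p) (x i)]
  rw [Equiv.swap_apply_of_ne_of_ne h1 h2, Equiv.swap_apply_of_ne_of_ne h3 h4]
  simp [ind_of_ne (fun h => h1 h.symm : p ≠ i), ind_of_ne (fun h => h2 h.symm : q ≠ i),
    ind_of_ne (fun h => h3 h.symm : p ≠ j), ind_of_ne (fun h => h4 h.symm : q ≠ j)]

/-- A permutation is determined by its effect on the pair sums. -/
theorem pairs_unique (hn : 5 ≤ n)
    (hd : ∀ i j k l, i ≠ j → k ≠ l → x i + x j = x k + x l → (i = k ∧ j = l) ∨ (i = l ∧ j = k))
    {σ τ : Equiv.Perm (Fin n)} (h : ∀ i j, i ≠ j → x (σ i) + x (σ j) = x (τ i) + x (τ j)) :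
    σ = τ := by
  refine Equiv.ext fun i => ?_
  have hcard : 2 ≤ (Finset.univ.erase i).card := by
    rw [Finset.card_erase_of_mem (Finset.mem_univ _), Finset.card_univ, Fintype.card_fin]; omega
  obtain ⟨j, hj, k, hk, hjk⟩ := Finset.one_lt_card.1 hcard
  rw [Finset.mem_erase] at hj hk
  rcases hd _ _ _ _ (σ.injective.ne hj.1.symm) (τ.injective.ne hj.1.symm) (h i j hj.1.symm)
    with ⟨e, -⟩ | ⟨e, -⟩
  · exact e
  rcases hd _ _ _ _ (σ.injective.ne hk.1.symm) (τ.injective.ne hk.1.symm) (h i k hk.1.symm)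
    with ⟨e', -⟩ | ⟨e', -⟩
  · exact e'
  exact absurd (τ.injective (e.symm.trans e')) hjk

end

variable {G : Type u} [Group G] [Finite G] {D : Set G} {V : Type u} [AddCommGroup V]
  [Module (ZMod 2) V]

/-- The symmetric model. -/
theorem isSymClass_of (h : Prim D) (E : Emb D V) (hs : IsSymType E.C) :
    ∃ n, 5 ≤ n ∧ IsSymClass D n := by
  obtain ⟨n, x, hn, hst, hd, hD⟩ := hs
  refine ⟨n, hn, ?_⟩
  have hgen : ∀ a ∈ D, ∃ p q, p ≠ q ∧ E.iota a = x p + x q ∧
      ∀ i j, i ≠ j → E.rho a (x i + x j) = x (Equiv.swap p q i) + x (Equiv.swap p q j) := by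
    intro a ha
    have hm : E.iota a ∈ E.C.D := E.image ▸ ⟨a, ha, rfl⟩
    rw [hD] at hm
    obtain ⟨p, q, hpq, e⟩ := hm
    exact ⟨p, q, hpq, e, fun i j hij => by
      rw [E.rho_transv a ha, e, transv_pair hst hpq hij]⟩
  have hex : ∀ g, ∃ σ : Equiv.Perm (Fin n),
      ∀ i j, i ≠ j → E.rho g (x i + x j) = x (σ i) + x (σ j) := by
    intro g
    have hg : g ∈ Subgroup.closure D := by rw [h.hD.2.2]; trivial
    induction hg using Subgroup.closure_induction with
    | mem a ha => obtain ⟨p, q, -, -, hσ⟩ := hgen a ha; exact ⟨_, hσ⟩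
    | one => exact ⟨1, fun i j _ => by rw [map_one]; rfl⟩
    | mul g k _ _ hg hk =>
      obtain ⟨σ, hσ⟩ := hg
      obtain ⟨τ, hτ⟩ := hk
      refine ⟨σ * τ, fun i j hij => ?_⟩
      rw [map_mul, LinearEquiv.mul_apply, hτ i j hij, hσ _ _ (τ.injective.ne hij)]
      rfl
    | inv g _ hg =>
      obtain ⟨σ, hσ⟩ := hg
      refine ⟨σ⁻¹, fun i j hij => (E.rho g).injective ?_⟩
      rw [← LinearEquiv.mul_apply, ← map_mul, mul_inv_cancel, map_one, hσ _ _ ((σ⁻¹).injective.ne hij)]
      simp
  choose f hf using hex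
  let φ : G →* Equiv.Perm (Fin n) :=
    { toFun := f
      map_one' := pairs_unique hn hd fun i j hij => by rw [← hf 1 i j hij, map_one]; rfl
      map_mul' := fun g k => pairs_unique hn hd fun i j hij => by
        rw [← hf (g * k) i j hij, map_mul, LinearEquiv.mul_apply, hf k i j hij,
          hf g _ _ ((f k).injective.ne hij)]
        rfl }
  have hinj : Function.Injective φ := by
    refine (injective_iff_map_eq_one φ).2 fun g hg => E.rho_injective ?_
    rw [map_one]
    refine LinearEquiv.toLinearMap_injective (LinearMap.ext_on E.C.span_eq_top ?_)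
    intro v hv
    rw [hD] at hv
    obtain ⟨i, j, hij, rfl⟩ := hv
    show E.rho g (x i + x j) = x i + x j
    rw [hf g i j hij, show f g = 1 from hg]
    rfl
  have hval : ∀ a ∈ D, ∀ p q, p ≠ q → E.iota a = x p + x q → φ a = Equiv.swap p q := by
    intro a ha p q hpq e
    refine pairs_unique hn hd fun i j hij => ?_
    show x (f a i) + x (f a j) = _
    rw [← hf a i j hij, E.rho_transv a ha, e, transv_pair hst hpq hij]
  have himg : φ '' D = {σ | σ.IsSwap} := by
    refine Set.Subset.antisymm ?_ ?_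
    · rintro _ ⟨a, ha, rfl⟩
      obtain ⟨p, q, hpq, e, -⟩ := hgen a ha
      exact ⟨p, q, hpq, hval a ha p q hpq e⟩
    · rintro σ ⟨p, q, hpq, rfl⟩
      have hm : x p + x q ∈ E.C.D := hst.1 p q hpq
      rw [← E.image] at hm
      obtain ⟨a, ha, e⟩ := hm
      exact ⟨a, ha, hval a ha p q hpq e⟩
  have hsurj : Function.Surjective φ := by
    rw [← MonoidHom.range_eq_top, eq_top_iff, ← Equiv.Perm.closure_isSwap, ← himg,
      Subgroup.closure_le]
    rintro _ ⟨a, -, rfl⟩
    exact ⟨a, rfl⟩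
  exact ⟨MulEquiv.ofBijective φ ⟨hinj, hsurj⟩, himg⟩

end Cfsg.Agent.Lib.FischerThm.A.Models
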