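import Cfsg.Agent.Lib.FischerThm.A.ModelSym
import Cfsg.Agent.Lib.FischerThm.A.ModelOrth
import Cfsg.Agent.Lib.SympTypeF2x73.Main

/-!
# Node A of Fischer's theorem (helper73, helper97)

A primitive centreless class of width two without affine planes is of symplectic type.
-/

set_option autoImplicit false

namespace Cfsg.Agent.Lib.FischerThm

open Cfsg Cfsg.Agent.Lib.SympTypeF2x73

universe u

theorem nodeA : NodeA.{u} := by
  intro G _ _ D h hn
  obtain ⟨V, _, _, _, ⟨E⟩⟩ := A.exists_emb h hn
  rcases classify E.C with hs | hs | hs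
  · exact Or.inl (A.Models.isSymClass_of h E hs)
  · rcases A.Models.isOrthClass_of h E hs with ho | ho
    · exact Or.inr (Or.inr (Or.inl ho))
    · exact Or.inr (Or.inr (Or.inr ho))
  · exact Or.inr (Or.inl (A.Models.isSpClass_of h E hs))

end Cfsg.Agent.Lib.FischerThm
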