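import Cfsg.Agent.Lib.FischerThm.Defs
import Cfsg.Agent.Lib.SympTypeF2x73.Basic

/-!
# Node A: the space of a class without affine planes (helper73)

The vectors are the functions on `D` in the span of `f a = (x ↦ [a, x do not commute])`; the form
satisfies `B φ (f a) = φ a`.
-/

set_option autoImplicit false
set_option linter.unusedSectionVars false

namespace Cfsg.Agent.Lib.FischerThm.A

open Cfsg Cfsg.Agent.Lib.SympTypeF2x73 Cfsg.Agent.Lib.FischerMTypes.Primitive

universe u

variable {G : Type u} [Group G] [Finite G] {D : Set G}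

/-- Coordinate functions. -/
abbrev Fun (D : Set G) : Type u := D → ZMod 2

open Classical in
/-- The function of a member. -/
noncomputable def nc (D : Set G) (a x : D) : ZMod 2 := if Commute (a : G) (x : G) then 0 else 1

theorem nc_of {a x : D} (h : Commute (a : G) (x : G)) : nc D a x = 0 := by
  classical exact if_pos h

theorem nc_of_not {a x : D} (h : ¬ Commute (a : G) (x : G)) : nc D a x = 1 := by
  classical exact if_neg h

theorem nc_comm (a x : D) : nc D a x = nc D x a := by
  classical
  by_cases h : Commute (a : G) (x : G)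
  · rw [nc_of h, nc_of h.symm]
  · rw [nc_of_not h, nc_of_not fun h' => h h'.symm]

theorem nc_self (a : D) : nc D a a = 0 := nc_of (Commute.refl _)

/-- The space. -/
abbrev space (D : Set G) : Submodule (ZMod 2) (Fun D) := Submodule.span (ZMod 2) (Set.range (nc D))

/-- The vector of a member. -/
noncomputable def pt (D : Set G) (a : D) : space D := ⟨nc D a, Submodule.subset_span ⟨a, rfl⟩⟩

@[simp] theorem pt_val (a : D) : (pt D a : Fun D) = nc D a := rfl

theorem span_pt : Submodule.span (ZMod 2) (Set.range (pt D)) = ⊤ := by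
  rw [eq_top_iff]
  rintro ⟨φ, hφ⟩ -
  have : φ ∈ (Submodule.span (ZMod 2) (Set.range (pt D))).map (space D).subtype := by
    rw [Submodule.map_span, ← Set.range_comp]
    exact hφ
  obtain ⟨ψ, hψ, rfl⟩ := this
  exact hψ

/-- The map from coefficient functions onto the space. -/
noncomputable def coe2 (D : Set G) [Fintype D] : Fun D →ₗ[ZMod 2] space D :=
  Fintype.linearCombination (ZMod 2) (pt D)

theorem coe2_surjective (D : Set G) [Fintype D] : Function.Surjective (coe2 D) := by
  rw [← LinearMap.range_eq_top, coe2, Fintype.range_linearCombination, span_pt]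

/-- The form is determined by `B φ (f a) = φ a`. -/
theorem exists_form (D : Set G) : ∃ B : space D →ₗ[ZMod 2] space D →ₗ[ZMod 2] ZMod 2,
    ∀ φ a, B φ (pt D a) = (φ : Fun D) a := by
  classical
  have := Fintype.ofFinite D
  -- evaluation of a member of the space on a coefficient function
  let ψ : Fun D →ₗ[ZMod 2] space D →ₗ[ZMod 2] ZMod 2 :=
    LinearMap.mk₂ (ZMod 2) (fun u φ => ∑ a, u a * (φ : Fun D) a)
      (fun u v φ => by simp [add_mul, Finset.sum_add_distrib])
      (fun r u φ => by simp [Finset.mul_sum, mul_assoc])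
      (fun u φ φ' => by simp [mul_add, Finset.sum_add_distrib])
      (fun r u φ => by simp [Finset.mul_sum, mul_left_comm])
  have hψ : ∀ u a, ψ u (pt D a) = (coe2 D u : Fun D) a := fun u a => by
    simp [ψ, coe2, Fintype.linearCombination_apply, nc_comm a]
  have hker : LinearMap.ker (coe2 D) ≤ LinearMap.ker ψ := by
    intro u hu
    rw [LinearMap.mem_ker] at hu ⊢
    refine LinearMap.ext_on_range span_pt fun a => ?_
    rw [hψ, hu]; rfl
  refine ⟨((LinearMap.ker (coe2 D)).liftQ ψ hker).comp
    ((coe2 D).quotKerEquivOfSurjective (coe2_surjective D)).symm.toLinearMap, fun φ a => ?_⟩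
  obtain ⟨u, rfl⟩ := coe2_surjective D φ
  simp only [LinearMap.comp_apply, LinearEquiv.coe_toLinearMap]
  rw [show ((coe2 D).quotKerEquivOfSurjective (coe2_surjective D)).symm (coe2 D u) =
    Submodule.Quotient.mk u from (LinearEquiv.symm_apply_eq _).2 rfl]
  rw [Submodule.liftQ_apply, hψ]

theorem commute_line (hD : IsThreeTranspositionGroup D) {a b x : G} (ha : a ∈ D) (hb : b ∈ D)
    (hab : ¬ Commute a b) (hxb : Commute x b) (hxc : Commute x (a * b * a)) : Commute x a := by
  have e : b * (a * b * a) * b = a := by
    rw [ThreeTranspositions.braid hD.1 ha hb hab,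
      show b * (b * a * b) * b = (b * b) * a * (b * b) by group,
      ThreeTranspositions.mul_self hD.1 hb, one_mul, mul_one]
  rw [← e]
  exact (hxb.mul_right hxc).mul_right hxb

/-- The three functions of a line add up to zero. -/
theorem nc_third (h : Prim D) (hn : NoPlane D) (a b : D) (hab : ¬ Commute (a : G) (b : G)) :
    nc D ⟨(a : G) * b * a, ThreeTranspositions.third_mem
      (ThreeTranspositions.isClosedSet_of_group h.hD) a.2 b.2⟩ = nc D a + nc D b := by
  have hC := ThreeTranspositions.isClosedSet_of_group h.hD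
  funext x
  rw [Pi.add_apply]
  by_cases hxa : Commute (x : G) (a : G)
  · by_cases hxb : Commute (x : G) (b : G)
    · rw [nc_of hxa.symm, nc_of hxb.symm, nc_of ((hxa.mul_right hxb).mul_right hxa).symm, add_zero]
    · have hc : ¬ Commute (x : G) ((a : G) * b * a) := fun hc => hxb (by
        have := commute_line h.hD b.2 a.2 (fun h' => hab h'.symm) hxa
          (ThreeTranspositions.braid h.hD.1 a.2 b.2 hab ▸ hc)
        exact this)
      rw [nc_of hxa.symm, nc_of_not fun h' => hxb h'.symm, nc_of_not fun h' => hc h'.symm, zero_add]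
  · by_cases hxb : Commute (x : G) (b : G)
    · have hc : ¬ Commute (x : G) ((a : G) * b * a) := fun hc =>
        hxa (commute_line h.hD a.2 b.2 hab hxb hc)
      rw [nc_of hxb.symm, nc_of_not fun h' => hxa h'.symm, nc_of_not fun h' => hc h'.symm, add_zero]
    · rw [nc_of_not fun h' => hxa h'.symm, nc_of_not fun h' => hxb h'.symm, z2_add_self]
      by_cases hxc : (x : G) = (a : G) * b * a
      · exact nc_of (show Commute ((a : G) * b * a) (x : G) by rw [hxc])
      · exact nc_of (hn a a.2 b b.2 x x.2 hab (fun h' => hxa h'.symm) (fun h' => hxb h'.symm) hxc).symm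

theorem pt_third (h : Prim D) (hn : NoPlane D) (a b : D) (hab : ¬ Commute (a : G) (b : G)) :
    pt D ⟨(a : G) * b * a, ThreeTranspositions.third_mem
      (ThreeTranspositions.isClosedSet_of_group h.hD) a.2 b.2⟩ = pt D a + pt D b :=
  Subtype.ext (nc_third h hn a b hab)

theorem pt_injective (h : Prim D) : Function.Injective (pt D) := by
  intro a b hab
  refine Subtype.ext (eq_of_comm_subset h.hD h.hprim h.hZ a.2 b.2 fun x hx hxa => ?_)
  by_contra hxb
  have := congrFun (congrArg Subtype.val hab) (⟨x, hx⟩ : D)
  rw [pt_val, pt_val, nc_of hxa.symm, nc_of_not fun h' => hxb h'.symm] at this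
  exact z2_one_ne_zero this.symm

/-- The non-commuting graph is connected. -/
theorem connected (h : Prim D) {A : Set G} (hA : A ⊆ D) (hne : A.Nonempty)
    (hcl : ∀ a ∈ A, ∀ b ∈ D, ¬ Commute a b → b ∈ A) : A = D := by
  have hst : ∀ x ∈ D, ∀ a ∈ A, x * a * x⁻¹ ∈ A := by
    intro x hx a ha
    have hC := ThreeTranspositions.isClosedSet_of_group h.hD
    have hxi := ThreeTranspositions.inv_eq h.hD.1 hx
    by_cases hc : Commute x a
    · rw [hc.eq, mul_inv_cancel_right]; exact ha
    · rw [hxi]
      exact hcl a ha _ (ThreeTranspositions.third_mem hC hx (hA ha))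
        (fun h' => ThreeTranspositions.third_not_commute_right hC hx (hA ha) hc h')
  have hall : ∀ g : G, ∀ a ∈ A, g * a * g⁻¹ ∈ A := by
    intro g
    have hg : g ∈ Subgroup.closure D := h.hD.2.2 ▸ Subgroup.mem_top g
    induction hg using Subgroup.closure_induction'' with
    | one => simp
    | mem x hx => exact hst x hx
    | inv_mem x hx => rw [ThreeTranspositions.inv_eq h.hD.1 hx]; exact hst x hx
    | mul x y _ _ hx hy =>
      intro a ha
      have := hx _ (hy a ha)
      simpa [mul_assoc] using this
  refine Set.Subset.antisymm hA fun b hb => ?_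
  obtain ⟨a, ha⟩ := hne
  obtain ⟨g, rfl⟩ := h.hprim.1 a (hA ha) b hb
  exact hall g a ha

end Cfsg.Agent.Lib.FischerThm.A
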